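import Mathlib
import Cfsg.Agent.Lib.H4.Dickson.SecD3
import Cfsg.Agent.Lib.H1.QuadStable3
import Cfsg.Agent.Lib.H16.OddKiller

/-!
# Quadratic elements outside `O_p` force a section `SL₂(p)`: the linear form
-/

set_option autoImplicit false

namespace Cfsg.Agent.Lib.H4.SL2Sec

open Cfsg.Agent.Lib.H1.QuadPair Cfsg.Agent.Lib.H1.QuadStable Cfsg.Agent.Lib.H4.Dickson

/-- `G` has a subgroup mapping onto `S` -/
def Inv (S : Type*) [Group S] (G : Type*) [Group G] : Prop :=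
  ∃ (X : Subgroup G) (ψ : ↥X →* S), Function.Surjective ψ

theorem Inv.of_subgroup {S : Type*} [Group S] {G : Type*} [Group G] (D : Subgroup G)
    (h : Inv S ↥D) : Inv S G := by
  obtain ⟨X, ψ, hψ⟩ := h
  exact ⟨X.map D.subtype,
    ψ.comp (X.equivMapOfInjective D.subtype D.subtype_injective).symm.toMonoidHom,
    hψ.comp (X.equivMapOfInjective D.subtype D.subtype_injective).symm.surjective⟩

theorem Inv.of_surjective {S : Type*} [Group S] {G G' : Type*} [Group G] [Group G']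
    (f : G →* G') (hf : Function.Surjective f) (h : Inv S G') : Inv S G := by
  obtain ⟨X, ψ, hψ⟩ := h
  exact ⟨X.comap f, ψ.comp (f.subgroupComap X),
    hψ.comp (f.subgroupComap_surjective_of_surjective X hf)⟩

variable {p : ℕ} [hp : Fact p.Prime]

theorem Quad.conj {V : Type*} [AddCommGroup V] [Module (ZMod p) V] {a : V ≃ₗ[ZMod p] V}
    (h : Quad a) (g : V ≃ₗ[ZMod p] V) : Quad (g * a * g⁻¹) := by
  intro w
  simp only [LinearEquiv.mul_apply]
  have h1 := h (g⁻¹ w)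
  have e : g (a (g⁻¹ w)) - w = g (a (g⁻¹ w) - g⁻¹ w) := by
    rw [map_sub]
    congr 1
    rw [LinearEquiv.coe_inv, LinearEquiv.apply_symm_apply]
  rw [e]
  congr 1
  rw [LinearEquiv.coe_inv, LinearEquiv.symm_apply_apply]
  exact h1

/-- base case: a faithful linear group with trivial `O_p` and a nontrivial quadratic element -/
theorem abstract_lin (hp2 : p ≠ 2) {V : Type*} [AddCommGroup V] [Module (ZMod p) V]
    [Module.Finite (ZMod p) V] {Hh : Type*} [Group Hh] [Finite Hh]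
    (ρ : Hh →* (V ≃ₗ[ZMod p] V)) (hρ : Function.Injective ρ) (hO : Cfsg.pCore p Hh = ⊥) {a : Hh}
    (ha1 : a ≠ 1) (haq : Quad (ρ a)) :
    Inv (Matrix.SpecialLinearGroup (Fin 2) (ZMod p)) Hh := by
  classical
  -- Baer–Suzuki
  have hex : ∃ y y' : Hh, Quad (ρ y) ∧ Quad (ρ y') ∧
      ¬ IsPGroup p (Subgroup.closure ({y, y'} : Set Hh)) := by
    by_contra hcon
    push Not at hcon
    obtain ⟨Kc, hKc⟩ : ∃ Kc : Set Hh, Kc = {y | ∃ g : Hh, y = g * a * g⁻¹} := ⟨_, rfl⟩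
    have hKconj : ∀ g : Hh, ∀ y ∈ Kc, g * y * g⁻¹ ∈ Kc := by
      intro g y hy
      rw [hKc] at hy ⊢
      obtain ⟨k, rfl⟩ := hy
      exact ⟨g * k, by group⟩
    have hKq : ∀ y ∈ Kc, Quad (ρ y) := by
      intro y hy
      rw [hKc] at hy
      obtain ⟨k, rfl⟩ := hy
      rw [map_mul, map_mul, map_inv]
      exact Quad.conj haq (ρ k)
    have hKpair : ∀ y ∈ Kc, ∀ y' ∈ Kc, IsPGroup p (Subgroup.closure ({y, y'} : Set Hh)) :=
      fun y hy y' hy' => hcon y y' (hKq y hy) (hKq y' hy')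
    have hKp := Cfsg.Agent.Lib.H16.isPGroup_closure_of_pairwise (p := p) Kc hKconj hKpair
    have hKn := Cfsg.Agent.Lib.H16.closure_normal_of_conj_mem Kc hKconj
    have haK : a ∈ Kc := by
      rw [hKc]; exact ⟨1, by group⟩
    have := Cfsg.Agent.Lib.H1.le_pCore hKn hKp (Subgroup.subset_closure haK)
    rw [hO, Subgroup.mem_bot] at this
    exact ha1 this
  obtain ⟨y, y', hyq, hy'q, hnp⟩ := hex
  obtain ⟨D, hD⟩ : ∃ D : Subgroup Hh, D = Subgroup.closure ({y, y'} : Set Hh) := ⟨_, rfl⟩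
  have hyD : y ∈ D := by rw [hD]; exact Subgroup.subset_closure (Set.mem_insert _ _)
  have hy'D : y' ∈ D := by
    rw [hD]; exact Subgroup.subset_closure (Set.mem_insert_of_mem _ (Set.mem_singleton _))
  have hgen : Subgroup.closure ({⟨y, hyD⟩, ⟨y', hy'D⟩} : Set ↥D) = ⊤ := by
    subst hD
    exact Cfsg.Agent.Lib.H16.closure_pair_subtype_eq_top y y'
  rw [← hD] at hnp
  have hρD : Function.Injective (ρ.comp D.subtype) := hρ.comp D.subtype_injective
  obtain ⟨m, φ, hφ⟩ := exists_hom_sl2 (ρ.comp D.subtype) hρD hgen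
    (a := ⟨y, hyD⟩) (b := ⟨y', hy'D⟩) hyq hy'q hnp
  have hK2 := two_ne_zero_of_odd (K := GaloisField p m) p hp2
  have hy₁p : (⟨y, hyD⟩ : ↥D) ^ p = 1 := pow_p_of_quad (ρ.comp D.subtype) hρD hyq
  have hy₂p : (⟨y', hy'D⟩ : ↥D) ^ p = 1 := pow_p_of_quad (ρ.comp D.subtype) hρD hy'q
  have ht₁ := (Cfsg.Agent.Lib.H8.SL2Odd.pow_char_eq_one_iff_trace p hK2 (φ ⟨y, hyD⟩)).1
    (by rw [← map_pow, hy₁p, map_one])
  have ht₂ := (Cfsg.Agent.Lib.H8.SL2Odd.pow_char_eq_one_iff_trace p hK2 (φ ⟨y', hy'D⟩)).1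
    (by rw [← map_pow, hy₂p, map_one])
  have hrange : φ.range = Subgroup.closure ({φ ⟨y, hyD⟩, φ ⟨y', hy'D⟩} :
      Set (Matrix.SpecialLinearGroup (Fin 2) (GaloisField p m))) := by
    rw [MonoidHom.range_eq_map, ← hgen, MonoidHom.map_closure, Set.image_pair]
  have hnp' : ¬ IsPGroup p (Subgroup.closure ({φ ⟨y, hyD⟩, φ ⟨y', hy'D⟩} :
      Set (Matrix.SpecialLinearGroup (Fin 2) (GaloisField p m)))) := by
    rw [← hrange, ← pImg_iff_range]
    exact hφ
  obtain ⟨f, hfinj, hfle⟩ := exists_sl2p_of_unip p hp2 ht₁ ht₂ hnp'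
  rw [← hrange] at hfle
  apply Inv.of_subgroup D
  refine ⟨f.range.comap φ,
    (MonoidHom.ofInjective hfinj).symm.toMonoidHom.comp (φ.subgroupComap f.range), ?_⟩
  intro s
  obtain ⟨d, hd⟩ := hfle ⟨s, rfl⟩
  have hdm : d ∈ f.range.comap φ := by
    rw [Subgroup.mem_comap, hd]; exact ⟨s, rfl⟩
  refine ⟨⟨d, hdm⟩, ?_⟩
  rw [MonoidHom.comp_apply]
  apply (MonoidHom.ofInjective hfinj).injective
  rw [MulEquiv.coe_toMonoidHom, MulEquiv.apply_symm_apply]
  apply Subtype.ext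
  rw [MonoidHom.ofInjective_apply]
  exact hd

end Cfsg.Agent.Lib.H4.SL2Sec
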