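import Mathlib
import Cfsg.Agent.Lib.H4.SL2Sec.Lin2
import Cfsg.Agent.Lib.H4.FaithfulForm

/-!
# Groups not involving `SL₂(p)` act `p`-stably on normal elementary abelian subgroups
-/

set_option autoImplicit false

namespace Cfsg.Agent.Lib.H4.SL2Sec

open Cfsg.Agent.Lib.H1.QuadPair Cfsg.Agent.Lib.H1.QuadStable Cfsg.Agent.Lib.H1.QuadMul

variable {p : ℕ} [hp : Fact p.Prime]

/-- multiplicative faithful form -/
theorem mul_form {G : Type*} [Group G] [Finite G] {V : Type*} [Group V] [Finite V] [IsEA p V]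
    (hp2 : p ≠ 2) (σ : G →* MulAut V) (hσ : Function.Injective σ) {a : G}
    (ha : QuadM (σ a)) (hna : a ∉ Cfsg.pCore p G) :
    Inv (Matrix.SpecialLinearGroup (Fin 2) (ZMod p)) G := by
  have : Module.Finite (ZMod p) (EA p V) := Module.Finite.of_finite
  have hinj : Function.Injective ((mulAutToLin p V).comp σ) := by
    intro x y h
    exact hσ (mulAutToLin_injective h)
  exact lin_form hp2 a (Module.finrank (ZMod p) (EA p V)) (EA p V) ((mulAutToLin p V).comp σ) rfl
    (quad_of_quadM ha) (notInOp_of_injective ((mulAutToLin p V).comp σ) hinj hna)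

open scoped commutatorElement in
/-- faithful form inside one group -/
theorem faithful_form {G₀ : Type*} [Group G₀] [Finite G₀] (hp2 : p ≠ 2) (V H : Subgroup G₀)
    (hV : Cfsg.IsElementaryAbelian p V) (hHV : H ≤ Subgroup.normalizer (V : Set G₀))
    (hf : H ⊓ Subgroup.centralizer (V : Set G₀) = ⊥) (a : G₀) (haH : a ∈ H)
    (hq : ⁅⁅V, Subgroup.zpowers a⁆, Subgroup.zpowers a⁆ = ⊥)
    (hna : a ∉ (Cfsg.pCore p H).map H.subtype) :
    Inv (Matrix.SpecialLinearGroup (Fin 2) (ZMod p)) ↥H := by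
  have := isEA_of hV
  have hna' : (⟨a, haH⟩ : H) ∉ Cfsg.pCore p H := fun h => hna ⟨_, h, rfl⟩
  exact mul_form hp2 (act V H hHV) (act_injective hHV hf) (quadM_act hHV haH hq) hna'

universe u

theorem stableOn_of_not_inv {X : Type u} [Group X] [Finite X] (hp2 : p ≠ 2)
    (hX : ¬ Inv (Matrix.SpecialLinearGroup (Fin 2) (ZMod p)) X) (V : Subgroup X) [V.Normal]
    (hV : Cfsg.IsElementaryAbelian p V) : Cfsg.IsPStableOn p V := by
  apply Cfsg.Agent.Lib.H4.FaithfulForm.isPStableOn_of_faithful V hV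
  rintro V' H hV' hHV hf ⟨f, hfs⟩ a haH hq
  by_contra hna
  exact hX (Inv.of_surjective f hfs (faithful_form hp2 V' H hV' hHV hf a haH hq hna))

end Cfsg.Agent.Lib.H4.SL2Sec
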